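import Cfsg.Agent.Lib.CosetEnum.Fi23Norm.Centre.Cert
import Cfsg.Agent.Lib.CosetEnum.Fi23Norm.Centre.Max.Data
import Cfsg.Agent.Lib.CosetEnum.Fi23Norm.Centre.Max.CovData

/-!
# Tests for the normaliser of the centre of a Sylow 3-subgroup of Fi23 as a maximal subgroup
-/

set_option autoImplicit false

namespace Cfsg.Lib.CosetEnum.Fi23Norm.Centre.Max

open Cfsg.Lib.CosetEnum
open Cfsg.Lib.CosetEnum.Fi23Fi22 (tabP)
open Cfsg.Lib.CosetEnum.Fi23Out (pts)

/-- A fixed point by one number. -/
def aPt (a : Nat) : Nat := cPt (a / 9) (a % 9)

/-- The image of a number under a packed permutation. -/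
def pAt (P a : Nat) : Nat := Nat.land (Nat.shiftRight P (Nat.mul 9 a)) 511

/-- A word moves the fixed points as packed. -/
noncomputable def actOK (w : List Nat) (P : Nat) : Bool :=
  (w.all fun g => Nat.blt g 10) &&
    (List.range 324).all fun a => Nat.blt (pAt P a) 324 && Nat.beq (twalk tabP 10 w (aPt a)) (aPt (pAt P a))

/-- A commutator of packed permutations. -/
noncomputable def commOK (A B C : Nat) : Bool :=
  (List.range 324).all fun a => Nat.blt (pAt C a) 324 && Nat.beq (pAt C (pAt A (pAt B a))) (pAt B (pAt A a))

/-- A product of packed permutations. -/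
noncomputable def mulOK (A B C : Nat) : Bool :=
  (List.range 324).all fun a => Nat.beq (pAt C a) (pAt B (pAt A a))

/-- The permutations listed at a level. -/
def permsAt (k : Nat) : List Nat := (prog.getD k []).map fun o => o.2.2.2

/-- One step of the program. -/
noncomputable def stepDOK (k n : Nat) : Bool :=
  match (prog.getD k []).getD n (3, 0, 0, 0) with
  | (0, x, y, P) => Nat.blt 0 k && Nat.blt x (permsAt (k - 1)).length && Nat.blt y (permsAt (k - 1)).length &&
      commOK ((permsAt (k - 1)).getD x 0) ((permsAt (k - 1)).getD y 0) P
  | (1, x, y, P) => Nat.blt x n && Nat.blt y n && mulOK ((permsAt k).getD x 0) ((permsAt k).getD y 0) P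
  | (2, x, _, P) => Nat.beq k 0 && Nat.blt x baseWords.length && Nat.beq P (basePerms.getD x 0)
  | _ => false

/-- The program. -/
noncomputable def progOK : Bool :=
  (List.range 9).all fun k => (List.range (prog.getD k []).length).all fun n => stepDOK k n

/-- The starting words. -/
noncomputable def baseWordsOK : Bool :=
  (List.range baseWords.length).all fun x => actOK (baseWords.getD x []) (basePerms.getD x 0)

/-- Two of the last level are non-commuting elements modulo the centre. -/
noncomputable def lastLevelOK : Bool :=
  Nat.blt lastA (permsAt 8).length && Nat.blt lastB (permsAt 8).length &&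
    actOK qA ((permsAt 8).getD lastA 0) && actOK qB ((permsAt 8).getD lastB 0) &&
    sameOK tabP 10 pts (qA ++ zW) (zW ++ qA) && sameOK tabP 10 pts (qB ++ zW) (zW ++ qB) &&
    Nat.blt witPt 31671 && !(Nat.beq (twalk tabP 10 (qA ++ qB) witPt) (twalk tabP 10 (qB ++ qA) witPt))

/-- The clique of a block. -/
def clq (i : Nat) : Nat := clique.getD i 0

/-- The third clique. -/
def thirdC (a b : Nat) : Nat := (cThird.getD a []).getD b 0

/-- The third member of a block. -/
def thirdB (i k a : Nat) : Nat := ((bThird.getD i []).getD k []).getD a 0

/-- The cliques are the classes of commuting blocks. -/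
noncomputable def cliqueOK : Bool :=
  (List.range 36).all fun i => Nat.blt (clq i) 9 && elemN (cliques.getD (clq i) []) i &&
    Nat.ble (cliques.getD (clq i) []).length 4 &&
    (List.range 36).all fun j => (elemN (cAdj.getD i []) j || Nat.beq i j) == Nat.beq (clq i) (clq j)

/-- Every clique has a member. -/
noncomputable def cliqueRepOK : Bool :=
  (List.range 9).all fun c => Nat.blt ((cliques.getD c []).getD 0 99) 36 &&
    Nat.beq (clq ((cliques.getD c []).getD 0 99)) c

/-- The conjugate of the first member of a block by that of another is in the third clique. -/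
noncomputable def crossOK : Bool :=
  (List.range 36).all fun i => (List.range 36).all fun j => Nat.beq (clq i) (clq j) ||
    (cliques.getD (thirdC (clq i) (clq j)) []).any fun s => Nat.blt s 36 &&
      Nat.beq (clq s) (thirdC (clq i) (clq j)) && elemN (cPts.getD s []) (twalk tabP 10 (cWord i 0) (cPt j 0))

/-- The conjugates within a block. -/
noncomputable def insideOK : Bool :=
  (List.range 36).all fun i => (List.range 9).all fun k => (List.range 9).all fun a =>
    Nat.blt (thirdB i k a) 9 && Nat.beq (twalk tabP 10 (cWord i k) (cPt i a)) (cPt i (thirdB i k a))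

/-- A table of the affine plane of order three. -/
noncomputable def planeOK (t : Nat → Nat → Nat) : Bool :=
  (List.range 9).all fun a => (List.range 9).all fun b => (Nat.beq a b && Nat.beq (t a b) a) || (!(Nat.beq a b) && Nat.blt (t a b) 9 &&
    !(Nat.beq (t a b) a) && !(Nat.beq (t a b) b) &&
    (List.range 9).all fun c => Nat.beq c a || Nat.beq c b || Nat.beq c (t a b) || (List.range 9).all fun d =>
      elemN [a, b, c, t a b, t a c, t b c, t (t a b) c, t (t a c) b, t (t b c) a] d)

/-- All the tables are such. -/
noncomputable def planesOK : Bool :=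
  planeOK thirdC && (List.range 36).all fun i => planeOK (thirdB i)

/-- The entry of an orbit table. -/
noncomputable def covAt (j : Nat) : Nat := covTab.getP j

/-- The point of an entry. -/
noncomputable def covPt (j : Nat) : Nat := covAt j % 32768

/-- Its predecessor. -/
noncomputable def covPar (j : Nat) : Nat := covAt j / 32768 % 32768

/-- The generator used. -/
noncomputable def covGen (j : Nat) : Nat := covAt j / 1073741824 % 32

/-- The entry of a point. -/
noncomputable def covPos (p : Nat) : Nat := covAt p / 34359738368

/-- The roots: the fixed points and the representatives. -/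
def covRoot (j : Nat) : Nat := cond (Nat.blt j 324) (aPt j) (reps.getD (j - 324) 0)

/-- One entry of the orbit table. -/
noncomputable def covStepOK (j : Nat) : Bool :=
  Nat.blt (covPos j) 31671 && Nat.beq (covPt (covPos j)) j &&
    cond (Nat.blt j 329) (Nat.beq (covPt j) (covRoot j))
      (Nat.ble 324 (covPar j) && Nat.blt (covPar j) j && Nat.blt (covGen j) covGens.length &&
        Nat.beq (twalk tabP 10 (cWord (covGens.getD (covGen j) 0 / 9) (covGens.getD (covGen j) 0 % 9))
          (covPt (covPar j))) (covPt j))

/-- A range of entries. -/
noncomputable def covOK : Nat → Nat → Bool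
  | 0, _ => true
  | m + 1, i => force i fun i => covStepOK i && covOK m (i + 1)

/-- The generators of the table are members. -/
noncomputable def covGensOK : Bool := covGens.all fun a => Nat.blt a 324

/-- One step from a representative. -/
noncomputable def derStepOK (known : List Nat) (s : Nat × Nat × Nat × Nat × List Nat) : Bool :=
  elemN known s.2.1 &&
    cond (Nat.beq s.2.2.1 31671)
      (Nat.blt s.2.2.2.1 baseWords.length && Nat.beq (twalk tabP 10 (baseWords.getD s.2.2.2.1 []) s.2.1) s.1)
      (elemN known s.2.2.1 && markOK s.2.2.2.1 s.2.2.2.2 s.2.2.1 &&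
        Nat.beq (twalk tabP 10 (markWord s.2.2.2.1 s.2.2.2.2) s.2.1) s.1)

/-- The steps lead to the points of the generators. -/
noncomputable def derOK : List (Nat × Nat × Nat × Nat × List Nat) → List Nat → Bool
  | [], known => (List.range 10).all fun g => elemN known (pts.getD g 0)
  | s :: l, known => derStepOK known s && derOK l (s.1 :: known)

/-- The steps from every representative. -/
noncomputable def dersOK : Bool :=
  (List.range 5).all fun r => derOK (ders.getD r []) (reps.getD r 0 :: cPts.flatten)

end Cfsg.Lib.CosetEnum.Fi23Norm.Centre.Max
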