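import Cfsg.Agent.Lib.CosetEnum.Fi23Norm.Centre.Main
import Cfsg.Agent.Lib.CosetEnum.Fi23Norm.Centre.Max.Defs
import Cfsg.Agent.Lib.CosetEnum.Fi23Norm.Centre.Max.ChecksBase

/-!
# Elements permuting the 324 members centralising the centre
-/

set_option autoImplicit false
set_option maxRecDepth 100000

namespace Cfsg.Lib.CosetEnum.Fi23Norm.Centre.Max

open Cfsg.Lib.CosetEnum
open Cfsg.Lib.CosetEnum.Fi23Fi22 (tabP)
open Cfsg.Lib.CosetEnum.Fi23Out (pts)

variable {G : Type*} [Group G] [Finite G] {D : Set G} (T : Fi23Tab G D)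

theorem aPt_lt {a : ℕ} (ha : a < 324) : aPt a < 31671 := cPt_lt (by omega) (by omega)

/-- A fixed point by one number. -/
def aF {a : ℕ} (ha : a < 324) : Fin 31671 := ⟨aPt a, aPt_lt ha⟩

theorem aF_delta {a : ℕ} (ha : a < 324) : T.A.delta (aF ha) = dl T (a / 9) (a % 9) :=
  dl_delta T (show a / 9 < 36 by omega) (show a % 9 < 9 by omega)

theorem aF_mem {a : ℕ} (ha : a < 324) :
    T.A.delta (aF ha) ∈ dCent D (Subgroup.zpowers (zG T)) := by
  rw [aF_delta T ha]
  exact dl_mem T (by omega) (by omega)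

theorem exists_aF {y : G} (hy : y ∈ dCent D (Subgroup.zpowers (zG T))) :
    ∃ a, ∃ ha : a < 324, T.A.delta (aF ha) = y := by
  rw [dCent_eq] at hy
  obtain ⟨i, hi, k, hk, rfl⟩ := hy
  refine ⟨9 * i + k, by omega, ?_⟩
  rw [aF_delta T]
  congr 1 <;> omega

include T in
theorem aPt_inj {a b : ℕ} (ha : a < 324) (hb : b < 324) (h : aPt a = aPt b) : a = b := by
  have e : T.A.delta (aF ha) = T.A.delta (aF hb) := congrArg _ (Fin.ext h)
  rw [aF_delta T ha, aF_delta T hb] at e
  obtain ⟨h1, h2⟩ := dl_inj T (show a / 9 < 36 by omega) (show a % 9 < 9 by omega) (show b / 9 < 36 by omega)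
    (show b % 9 < 9 by omega) e
  omega

/-- An element commuting with the members is in the centre. -/
theorem mem_zpowers_of_commute {c : G}
    (hc : ∀ a, ∀ ha : a < 324, Commute c (T.A.delta (aF ha))) : c ∈ Subgroup.zpowers (zG T) := by
  rw [← centralizer_qSub]
  have hdl : ∀ i < 36, ∀ k < 9, Commute c (dl T i k) := fun i hi k hk => by
    have h := hc (9 * i + k) (by omega)
    rw [aF_delta T] at h
    rwa [show (9 * i + k) / 9 = i by omega, show (9 * i + k) % 9 = k by omega] at h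
  have hgen : ∀ g < 8, Commute c (wordVal T.A.x (qWs.getD g [])) := by
    intro g hg
    have h := genPairOK_true
    simp only [genPairOK, List.all_eq_true, List.mem_range, List.any_eq_true, beq_iff_eq] at h
    obtain ⟨i, hi, k, hk, e⟩ := h g hg
    rw [e, wordVal_append]
    exact (hdl i hi k hk).mul_right (hdl i hi 0 (by norm_num))
  have hq : ∀ j < 8, qAll.getD j [] = qWs.getD j [] := fun j hj =>
    List.getD_append _ _ _ _ (show j < qWs.length from hj)
  have hz : Commute c (zG T) := by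
    have hcom := comOK_true
    simp only [comOK, List.all_eq_true, List.mem_range] at hcom
    have e := T.eq_of_same (hcom 0 (by norm_num) 5 (by norm_num))
    rw [wordVal_append, wordVal_append, wordVal_append, wordVal_replicate',
      show (cCom.getD 0 []).getD 5 0 = 1 from rfl, pow_one, hq 0 (by norm_num), hq 5 (by norm_num)] at e
    have h0 := hgen 0 (by norm_num)
    have h5 := hgen 5 (by norm_num)
    have h : zG T = (wordVal T.A.x (qWs.getD 0 []))⁻¹ *
        (wordVal T.A.x (qWs.getD 5 []) * wordVal T.A.x (qWs.getD 0 [])) * (wordVal T.A.x (qWs.getD 5 []))⁻¹ ∨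
      zG T = wordVal T.A.x (qWs.getD 5 []) * wordVal T.A.x (qWs.getD 0 []) *
        (wordVal T.A.x (qWs.getD 5 []))⁻¹ * (wordVal T.A.x (qWs.getD 0 []))⁻¹ ∨
      zG T = (wordVal T.A.x (qWs.getD 5 []))⁻¹ *
        (wordVal T.A.x (qWs.getD 0 []))⁻¹ * wordVal T.A.x (qWs.getD 5 []) * wordVal T.A.x (qWs.getD 0 []) := by
      first
      | (left; rw [e]; group; done)
      | (right; left; rw [e]; group; done)
      | (right; right; rw [e]; group; done)
    rcases h with h | h | h <;> rw [h]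
    · exact (h0.inv_right.mul_right (h5.mul_right h0)).mul_right h5.inv_right
    · exact ((h5.mul_right h0).mul_right h5.inv_right).mul_right h0.inv_right
    · exact ((h5.inv_right.mul_right h0.inv_right).mul_right h5).mul_right h0
  have hle : qSub T ≤ Subgroup.centralizer ({c} : Set G) := by
    refine (Subgroup.closure_le _).2 ?_
    rintro _ ⟨w, hw, rfl⟩
    rw [SetLike.mem_coe, Subgroup.mem_centralizer_singleton_iff]
    rcases List.mem_append.1 hw with hw | hw
    · obtain ⟨g, hg, rfl⟩ := List.getElem_of_mem hw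
      rw [← List.getD_eq_getElem _ [] hg]
      exact (hgen g hg).eq.symm
    · rw [List.mem_singleton.1 hw]
      exact hz.eq.symm
  exact Subgroup.mem_centralizer_iff.2 fun y hy => Subgroup.mem_centralizer_singleton_iff.1 (hle hy)

theorem zG_commute {a : ℕ} (ha : a < 324) : Commute (zG T) (T.A.delta (aF ha)) :=
  Subgroup.mem_centralizer_iff.1 (aF_mem T ha).2 _ (Subgroup.mem_zpowers _)

/-- An element permuting the members normalises the centre. -/
theorem mem_nZ_of_maps {g : G} (h : ∀ a, ∀ ha : a < 324, ∃ b, ∃ hb : b < 324, T.A.f g (aF ha) = aF hb) :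
    g ∈ nZ T := by
  classical
  choose b hb e using h
  obtain ⟨φ, hφ⟩ : ∃ φ : Fin 324 → Fin 324, ∀ a : Fin 324, (φ a).1 = b a.1 a.2 :=
    ⟨fun a => ⟨b a.1 a.2, hb a.1 a.2⟩, fun _ => rfl⟩
  have hinj : Function.Injective φ := fun x y exy => by
    have e' : T.A.f g (aF x.2) = T.A.f g (aF y.2) := by
      rw [e x.1 x.2, e y.1 y.2]
      exact Fin.ext (congrArg aPt (by rw [← hφ x, ← hφ y, exy]))
    exact Fin.ext (aPt_inj T x.2 y.2 (congrArg Fin.val ((T.A.f g).injective e')))
  have hsurj := Finite.injective_iff_surjective.1 hinj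
  have hz : g * zG T * g⁻¹ ∈ Subgroup.zpowers (zG T) := by
    refine mem_zpowers_of_commute T fun a ha => ?_
    obtain ⟨a', ha'⟩ := hsurj ⟨a, ha⟩
    have ea : T.A.f g (aF a'.2) = aF ha := by
      rw [e a'.1 a'.2]
      exact Fin.ext (congrArg aPt (by rw [← hφ a', ha']))
    rw [← ea, T.A.delta_apply, commute_conj_iff]
    exact zG_commute T a'.2
  refine Subgroup.mem_normalizer_fintype fun x hx => ?_
  obtain ⟨m, rfl⟩ := Subgroup.mem_zpowers_iff.1 hx
  rw [← conj_zpow]
  exact zpow_mem hz m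

/-- An element acting as a packed permutation. -/
def Acts (g : G) (P : ℕ) : Prop :=
  ∀ a, ∀ ha : a < 324, pAt P a < 324 ∧ (T.A.f g (aF ha)).1 = aPt (pAt P a)

theorem Acts.mem {g : G} {P : ℕ} (h : Acts T g P) : g ∈ nZ T :=
  mem_nZ_of_maps T fun a ha => ⟨pAt P a, (h a ha).1, Fin.ext (h a ha).2⟩

theorem acts_word {w : List ℕ} {P : ℕ} (h : actOK w P = true) : Acts T (wordVal T.A.x w) P := by
  simp only [actOK, Bool.and_eq_true, List.all_eq_true, List.mem_range, Nat.beq_eq] at h
  intro a ha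
  refine ⟨Nat.blt_eq.mp (h.2 a ha).1, ?_⟩
  rw [T.walk (List.all_eq_true.2 h.1)]
  exact (h.2 a ha).2

theorem acts_mul {g h : G} {A B C : ℕ} (hg : Acts T g A) (hh : Acts T h B) (hok : mulOK A B C = true) :
    Acts T (h * g) C := by
  simp only [mulOK, List.all_eq_true, List.mem_range, Nat.beq_eq] at hok
  intro a ha
  obtain ⟨h1, h2⟩ := hg a ha
  obtain ⟨h3, h4⟩ := hh _ h1
  rw [hok a ha]
  refine ⟨h3, ?_⟩
  rw [map_mul, Equiv.Perm.mul_apply, show T.A.f g (aF ha) = aF h1 from Fin.ext h2]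
  exact h4

theorem acts_com {g h : G} {A B C : ℕ} (hg : Acts T g A) (hh : Acts T h B) (hok : commOK A B C = true) :
    Acts T (h * g * h⁻¹ * g⁻¹) C := by
  simp only [commOK, List.all_eq_true, List.mem_range, Bool.and_eq_true, Nat.beq_eq] at hok
  intro y hy
  refine ⟨Nat.blt_eq.mp (hok y hy).1, ?_⟩
  obtain ⟨φ, hφ⟩ : ∃ φ : Fin 324 → Fin 324, ∀ a : Fin 324, (φ a).1 = pAt A (pAt B a.1) :=
    ⟨fun a => ⟨pAt A (pAt B a.1), (hg _ (hh a.1 a.2).1).1⟩, fun _ => rfl⟩
  have hφf : ∀ a : Fin 324, T.A.f (g * h) (aF a.2) = aF (φ a).2 := fun a => by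
    refine Fin.ext ?_
    obtain ⟨h1, h2⟩ := hh a.1 a.2
    rw [map_mul, Equiv.Perm.mul_apply, show T.A.f h (aF a.2) = aF h1 from Fin.ext h2, (hg _ h1).2]
    exact congrArg aPt (hφ a).symm
  have hinj : Function.Injective φ := fun x z exz => by
    have e' : T.A.f (g * h) (aF x.2) = T.A.f (g * h) (aF z.2) := by
      rw [hφf, hφf]
      exact Fin.ext (congrArg aPt (congrArg Fin.val exz))
    exact Fin.ext (aPt_inj T x.2 z.2 (congrArg Fin.val ((T.A.f (g * h)).injective e')))
  obtain ⟨x, hx⟩ := Finite.injective_iff_surjective.1 hinj ⟨y, hy⟩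
  have ey : aF hy = T.A.f (g * h) (aF x.2) := by
    rw [hφf]
    exact Fin.ext (congrArg aPt (congrArg Fin.val hx.symm))
  rw [ey, ← Equiv.Perm.mul_apply, ← map_mul, show h * g * h⁻¹ * g⁻¹ * (g * h) = h * g by group]
  obtain ⟨h1, h2⟩ := hg x.1 x.2
  rw [map_mul, Equiv.Perm.mul_apply, show T.A.f g (aF x.2) = aF h1 from Fin.ext h2, (hh _ h1).2,
    ← (hok x.1 x.2).2, ← hφ x, hx]

theorem base_acts {x : ℕ} (hx : x < baseWords.length) :
    Acts T (wordVal T.A.x (baseWords.getD x [])) (basePerms.getD x 0) := by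
  have h := baseWordsOK_true
  simp only [baseWordsOK, List.all_eq_true, List.mem_range] at h
  exact acts_word T (h x hx)

end Cfsg.Lib.CosetEnum.Fi23Norm.Centre.Max
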