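import Cfsg.Agent.Lib.CosetEnum.Fi23Norm.Centre.Max.Defs


/-! Kernel checks for the normaliser of the centre of a Sylow 3-subgroup of Fi23. -/

set_option autoImplicit false
set_option maxRecDepth 100000
set_option Elab.async false

namespace Cfsg.Lib.CosetEnum.Fi23Norm.Centre.Max

theorem covOK_part3 : covOK 4000 12000 = true := by decide +kernel

end Cfsg.Lib.CosetEnum.Fi23Norm.Centre.Max
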