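import Cfsg.Agent.Lib.CosetEnum.Fi23Norm.Centre.Max.Action
import Cfsg.Agent.Lib.CosetEnum.Fi23Norm.Centre.Max.ChecksProg

/-!
# The ninth derived subgroup of the normaliser of the centre is not trivial
-/

set_option autoImplicit false
set_option maxRecDepth 100000

namespace Cfsg.Lib.CosetEnum.Fi23Norm.Centre.Max

open Cfsg.Lib.CosetEnum
open Cfsg.Lib.CosetEnum.Fi23Fi22 (tabP)
open Cfsg.Lib.CosetEnum.Fi23Out (pts)

variable {G : Type*} [Group G] [Finite G] {D : Set G} (T : Fi23Tab G D)

/-- The derived series inside the group. -/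
noncomputable def serN (k : ℕ) : Subgroup G := (derivedSeries ↥(nZ T) k).map (nZ T).subtype

theorem serN_zero : serN T 0 = nZ T := by
  rw [serN, derivedSeries_zero, ← MonoidHom.range_eq_map, Subgroup.range_subtype]

theorem serN_succ (k : ℕ) : serN T (k + 1) = ⁅serN T k, serN T k⁆ := by
  rw [serN, derivedSeries_succ, Subgroup.map_commutator, ← serN]

theorem prog_acts : ∀ k < 9, ∀ n < (prog.getD k []).length,
    ∃ g ∈ serN T k, Acts T g ((permsAt k).getD n 0) := by
  intro k
  induction k using Nat.strong_induction_on with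
  | _ k ihk =>
  intro hk n
  induction n using Nat.strong_induction_on with
  | _ n ih =>
  intro hn
  have h := progOK_true
  simp only [progOK, List.all_eq_true, List.mem_range] at h
  have hs := h k hk n hn
  have hP : (permsAt k).getD n 0 = ((prog.getD k []).getD n (3, 0, 0, 0)).2.2.2 := by
    rw [permsAt, List.getD_eq_getElem _ _ (by rwa [List.length_map]), List.getElem_map,
      List.getD_eq_getElem _ _ hn]
  rw [hP]
  have hlen : ∀ j, (permsAt j).length = (prog.getD j []).length := fun j => List.length_map _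
  obtain ⟨⟨op, x, y, P⟩, he⟩ : ∃ s, s = (prog.getD k []).getD n (3, 0, 0, 0) := ⟨_, rfl⟩
  rw [← he]
  simp only [stepDOK, ← he] at hs
  match op with
  | 0 =>
    simp only [Bool.and_eq_true, Nat.blt_eq, hlen, and_assoc] at hs
    obtain ⟨h0, hx, hy, hok⟩ := hs
    obtain ⟨g, hg, hga⟩ := ihk (k - 1) (by omega) (by omega) x hx
    obtain ⟨g', hg', hga'⟩ := ihk (k - 1) (by omega) (by omega) y hy
    refine ⟨g' * g * g'⁻¹ * g⁻¹, ?_, acts_com T hga hga' hok⟩
    rw [show k = k - 1 + 1 by omega, serN_succ]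
    exact Subgroup.commutator_mem_commutator hg' hg
  | 1 =>
    simp only [Bool.and_eq_true, Nat.blt_eq, and_assoc] at hs
    obtain ⟨hx, hy, hok⟩ := hs
    obtain ⟨g, hg, hga⟩ := ih x hx (hx.trans hn)
    obtain ⟨g', hg', hga'⟩ := ih y hy (hy.trans hn)
    exact ⟨g' * g, mul_mem hg' hg, acts_mul T hga hga' hok⟩
  | 2 =>
    simp only [Bool.and_eq_true, Nat.blt_eq, Nat.beq_eq, and_assoc] at hs
    obtain ⟨rfl, hx, rfl⟩ := hs
    refine ⟨_, ?_, base_acts T hx⟩
    rw [serN_zero]
    exact (base_acts T hx).mem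
  | op + 3 => simp at hs

/-- Two elements acting alike differ by the centre. -/
theorem acts_unique {g h : G} {P : ℕ} (hg : Acts T g P) (hh : Acts T h P) :
    h⁻¹ * g ∈ Subgroup.zpowers (zG T) := by
  refine mem_zpowers_of_commute T fun a ha => ?_
  refine (T.A.commute_delta_iff _ _).2 ?_
  rw [map_mul, Equiv.Perm.mul_apply, show T.A.f g (aF ha) = T.A.f h (aF ha) from
    Fin.ext ((hg a ha).2.trans (hh a ha).2.symm), ← Equiv.Perm.mul_apply, ← map_mul, inv_mul_cancel, map_one,
    Equiv.Perm.one_apply]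

/-- The ninth derived subgroup is not trivial. -/
theorem derived_nine_ne_bot : derivedSeries ↥(nZ T) 9 ≠ ⊥ := by
  have h := lastLevelOK_true
  simp only [lastLevelOK, Bool.and_eq_true, Nat.blt_eq, Bool.not_eq_true', and_assoc] at h
  obtain ⟨hA, hB, haA, haB, hzA, hzB, hw, hne⟩ := h
  rw [permsAt, List.length_map] at hA hB
  obtain ⟨g, hg, hga⟩ := prog_acts T 8 (by norm_num) _ hA
  obtain ⟨g', hg', hga'⟩ := prog_acts T 8 (by norm_num) _ hB
  obtain ⟨u, hu⟩ : ∃ u, u = wordVal T.A.x qA := ⟨_, rfl⟩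
  obtain ⟨v, hv⟩ : ∃ v, v = wordVal T.A.x qB := ⟨_, rfl⟩
  have hcu : Commute (zG T) u := by
    have e := T.eq_of_same hzA
    rw [wordVal_append, wordVal_append, ← hu] at e
    exact e
  have hcv : Commute (zG T) v := by
    have e := T.eq_of_same hzB
    rw [wordVal_append, wordVal_append, ← hv] at e
    exact e
  obtain ⟨e, he⟩ := Subgroup.mem_zpowers_iff.1 (acts_unique T hga (hu ▸ acts_word T haA))
  obtain ⟨f, hf⟩ := Subgroup.mem_zpowers_iff.1 (acts_unique T hga' (hv ▸ acts_word T haB))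
  intro hbot
  have hcomm : g * g' * g⁻¹ * g'⁻¹ ∈ serN T 9 := by
    rw [serN_succ]
    exact Subgroup.commutator_mem_commutator hg hg'
  rw [serN, hbot, Subgroup.map_bot, Subgroup.mem_bot] at hcomm
  have hgg : g * g' = g' * g := by
    rw [mul_inv_eq_one, mul_inv_eq_iff_eq_mul] at hcomm
    exact hcomm
  rw [show g = u * zG T ^ e by rw [he]; group, show g' = v * zG T ^ f by rw [hf]; group] at hgg
  have huv : u * v = v * u := by
    have h1 : u * zG T ^ e * (v * zG T ^ f) = u * v * (zG T ^ (e + f)) := by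
      rw [mul_assoc u, ← mul_assoc (zG T ^ e), (hcv.zpow_left e).eq, mul_assoc v, ← zpow_add, ← mul_assoc]
    have h2 : v * zG T ^ f * (u * zG T ^ e) = v * u * (zG T ^ (e + f)) := by
      rw [mul_assoc v, ← mul_assoc (zG T ^ f), (hcu.zpow_left f).eq, mul_assoc u, ← zpow_add, ← mul_assoc,
        add_comm f e]
    rw [h1, h2] at hgg
    exact mul_right_cancel hgg
  have hlt : ∀ w, actOK w ((permsAt 8).getD lastA 0) = true ∨ actOK w ((permsAt 8).getD lastB 0) = true →
      (w.all fun g => Nat.blt g 10) = true := by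
    rintro w (h | h) <;>
    · simp only [actOK, Bool.and_eq_true] at h
      exact h.1
  have e1 := T.walk (show ((qA ++ qB).all fun g => Nat.blt g 10) = true by
    rw [List.all_append, hlt qA (Or.inl haA), hlt qB (Or.inr haB), Bool.and_self]) ⟨witPt, hw⟩
  have e2 := T.walk (show ((qB ++ qA).all fun g => Nat.blt g 10) = true by
    rw [List.all_append, hlt qA (Or.inl haA), hlt qB (Or.inr haB), Bool.and_self]) ⟨witPt, hw⟩
  rw [wordVal_append, ← hu, ← hv, ← huv] at e1
  rw [wordVal_append, ← hu, ← hv] at e2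
  rw [e2] at e1
  simp only at e1
  simp [e1] at hne

end Cfsg.Lib.CosetEnum.Fi23Norm.Centre.Max
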