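import Cfsg.Agent.Lib.CosetEnum.Fi23Norm.Centre.Max.Action
import Cfsg.Agent.Lib.CosetEnum.Fi23Norm.Centre.Max.ChecksDers
import Cfsg.Agent.Lib.CosetEnum.Fi23Norm.Centre.Max.ChecksCov0
import Cfsg.Agent.Lib.CosetEnum.Fi23Norm.Centre.Max.ChecksCov1
import Cfsg.Agent.Lib.CosetEnum.Fi23Norm.Centre.Max.ChecksCov2
import Cfsg.Agent.Lib.CosetEnum.Fi23Norm.Centre.Max.ChecksCov3
import Cfsg.Agent.Lib.CosetEnum.Fi23Norm.Centre.Max.ChecksCov4
import Cfsg.Agent.Lib.CosetEnum.Fi23Norm.Centre.Max.ChecksCov5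
import Cfsg.Agent.Lib.CosetEnum.Fi23Norm.Centre.Max.ChecksCov6
import Cfsg.Agent.Lib.CosetEnum.Fi23Norm.Centre.Max.ChecksCov7

/-!
# The normaliser of the centre is a maximal subgroup

A larger subgroup has a member outside the 324, hence one of five representatives, and then the generators.
-/

set_option autoImplicit false
set_option maxRecDepth 100000

namespace Cfsg.Lib.CosetEnum.Fi23Norm.Centre.Max

open Cfsg.Lib.CosetEnum
open Cfsg.Lib.CosetEnum.Fi23Fi22 (tabP)
open Cfsg.Lib.CosetEnum.Fi23Out (pts)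

theorem covOK_get : ∀ {m i : ℕ}, covOK m i = true → ∀ j, i ≤ j → j < i + m → covStepOK j = true
  | 0, i, _, j, h1, h2 => by omega
  | m + 1, i, hc, j, h1, h2 => by
    rw [covOK, force_eq, Bool.and_eq_true] at hc
    rcases Nat.eq_or_lt_of_le h1 with h | h
    · exact h ▸ hc.1
    · exact covOK_get hc.2 j h (by omega)

theorem covStep {j : ℕ} (hj : j < 31671) : covStepOK j = true := by
  rcases Nat.lt_or_ge j 4000 with h | h
  · exact covOK_get covOK_part0 j (Nat.zero_le _) h
  rcases Nat.lt_or_ge j 8000 with h1 | h1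
  · exact covOK_get covOK_part1 j h (by omega)
  rcases Nat.lt_or_ge j 12000 with h2 | h2
  · exact covOK_get covOK_part2 j h1 (by omega)
  rcases Nat.lt_or_ge j 16000 with h3 | h3
  · exact covOK_get covOK_part3 j h2 (by omega)
  rcases Nat.lt_or_ge j 20000 with h4 | h4
  · exact covOK_get covOK_part4 j h3 (by omega)
  rcases Nat.lt_or_ge j 24000 with h5 | h5
  · exact covOK_get covOK_part5 j h4 (by omega)
  rcases Nat.lt_or_ge j 28000 with h6 | h6
  · exact covOK_get covOK_part6 j h5 (by omega)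
  · exact covOK_get covOK_part7 j h6 (by omega)

theorem mem_flatten {q : ℕ} (hq : q ∈ cPts.flatten) : ∃ a < 324, aPt a = q := by
  obtain ⟨L, hL, hq⟩ := List.mem_flatten.1 hq
  obtain ⟨i, hi, rfl⟩ := List.getElem_of_mem hL
  have hi' : i < 36 := set_facts.2.1 ▸ hi
  rw [← List.getD_eq_getElem _ [] hi] at hq
  obtain ⟨k, hk, he⟩ := mem_block hi' hq
  refine ⟨9 * i + k, by omega, ?_⟩
  rw [aPt, show (9 * i + k) / 9 = i by omega, show (9 * i + k) % 9 = k by omega, he]

theorem reps_lt {r : ℕ} (hr : r < 5) : reps.getD r 0 < 31671 := by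
  interval_cases r <;> decide

variable {G : Type*} [Group G] [Finite G] {D : Set G} (T : Fi23Tab G D) {M : Subgroup G}

/-- The transposition of a point. -/
def InM (M : Subgroup G) (v : ℕ) : Prop := ∃ hv : v < 31671, T.A.delta ⟨v, hv⟩ ∈ M

theorem cov_reps (hM : ∀ a, ∀ ha : a < 324, T.A.delta (aF ha) ∈ M) :
    ∀ j < 31671, covPt j < 31671 ∧ (324 ≤ j → InM T M (covPt j) → ∃ r < 5, InM T M (reps.getD r 0)) := by
  intro j
  induction j using Nat.strong_induction_on with
  | _ j ih =>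
  intro hj
  have h := covStep hj
  simp only [covStepOK, Bool.and_eq_true, and_assoc] at h
  obtain ⟨-, -, h⟩ := h
  by_cases h329 : j < 329
  · rw [show Nat.blt j 329 = true from Nat.blt_eq.mpr h329, cond_true, Nat.beq_eq] at h
    rw [h, covRoot]
    by_cases h324 : j < 324
    · rw [show Nat.blt j 324 = true from Nat.blt_eq.mpr h324, cond_true]
      exact ⟨aPt_lt h324, fun h' => absurd h324 (by omega)⟩
    · rw [show Nat.blt j 324 = false from Bool.eq_false_iff.2 fun e => h324 (Nat.blt_eq.mp e), cond_false]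
      exact ⟨reps_lt (by omega), fun _ hm => ⟨j - 324, by omega, hm⟩⟩
  · rw [show Nat.blt j 329 = false from Bool.eq_false_iff.2 fun e => h329 (Nat.blt_eq.mp e), cond_false] at h
    simp only [Bool.and_eq_true, Nat.blt_eq, Nat.ble_eq, Nat.beq_eq, and_assoc] at h
    obtain ⟨h1, h2, h3, h4⟩ := h
    obtain ⟨a, hadef⟩ : ∃ a, a = covGens.getD (covGen j) 0 := ⟨_, rfl⟩
    rw [← hadef] at h4
    have ha : a < 324 := by
      have hg := covGensOK_true
      simp only [covGensOK, List.all_eq_true, Nat.blt_eq] at hg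
      exact hadef ▸ hg _ (getD_mem_list h3 0)
    obtain ⟨hp, hrec⟩ := ih _ h2 (h2.trans hj)
    have hw := cWord_lt (show a / 9 < 36 by omega) (show a % 9 < 9 by omega)
    have hv : (T.A.f (dl T (a / 9) (a % 9)) ⟨covPt (covPar j), hp⟩).1 = covPt j := by
      rw [← h4]
      exact T.walk hw _
    refine ⟨hv ▸ Fin.is_lt _, fun _ hm => hrec h1 ⟨hp, ?_⟩⟩
    obtain ⟨hlt, hm⟩ := hm
    rw [show (⟨covPt j, hlt⟩ : Fin 31671) = T.A.f (dl T (a / 9) (a % 9)) ⟨covPt (covPar j), hp⟩ from
      Fin.ext hv.symm, T.A.delta_apply] at hm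
    have hd : dl T (a / 9) (a % 9) ∈ M := aF_delta T ha ▸ hM a ha
    simpa [mul_assoc] using mul_mem (mul_mem (inv_mem hd) hm) hd

theorem ders_gens (hH : nZ T ≤ M) : ∀ (l : List (ℕ × ℕ × ℕ × ℕ × List ℕ)) (known : List ℕ),
    derOK l known = true → (∀ v ∈ known, InM T M v) → ∀ g < 10, T.A.x g ∈ M := by
  intro l
  induction l with
  | nil =>
    intro known h hk g hg
    simp only [derOK, List.all_eq_true, List.mem_range, elemN_iff] at h
    obtain ⟨hv, hm⟩ := hk _ (h g hg)
    have hgk : g < T.A.k := T.hk.symm ▸ hg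
    rw [← T.A.delta_pts hgk]
    convert hm using 3
    rw [T.hp]
  | cons s l ih =>
    intro known h hk
    rw [derOK, Bool.and_eq_true] at h
    obtain ⟨h1, h2⟩ := h
    refine ih _ h2 fun v hv => ?_
    rcases List.mem_cons.1 hv with rfl | hv
    swap
    · exact hk v hv
    obtain ⟨v, b, a, g, m⟩ := s
    simp only [derStepOK, Bool.and_eq_true, elemN_iff] at h1
    obtain ⟨hb, h1⟩ := h1
    obtain ⟨hblt, hbm⟩ := hk b hb
    have hconj : ∀ c ∈ M, (T.A.f c ⟨b, hblt⟩).1 = v → InM T M v := fun c hc e => by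
      refine ⟨e ▸ Fin.is_lt _, ?_⟩
      rw [show (⟨v, e ▸ Fin.is_lt _⟩ : Fin 31671) = T.A.f c ⟨b, hblt⟩ from Fin.ext e.symm, T.A.delta_apply]
      exact mul_mem (mul_mem hc hbm) (inv_mem hc)
    show InM T M v
    cases hcase : Nat.beq a 31671
    · rw [hcase, cond_false] at h1
      simp only [Bool.and_eq_true, elemN_iff, Nat.beq_eq, and_assoc] at h1
      obtain ⟨ha, hmark, hw⟩ := h1
      obtain ⟨halt, ham⟩ := hk a ha
      refine hconj (wordVal T.A.x (markWord g m)) (delta_mark T hmark halt ▸ ham) ?_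
      rw [T.walk (markWord_lt hmark)]
      exact hw
    · rw [hcase, cond_true] at h1
      simp only [Bool.and_eq_true, Nat.blt_eq, Nat.beq_eq] at h1
      obtain ⟨hg, hw⟩ := h1
      refine hconj (wordVal T.A.x (baseWords.getD g [])) (hH (base_acts T hg).mem) ?_
      have h' := baseWordsOK_true
      simp only [baseWordsOK, List.all_eq_true, List.mem_range] at h'
      have h'' := h' g hg
      simp only [actOK, Bool.and_eq_true] at h''
      rw [T.walk h''.1]
      exact hw

/-- A subgroup properly containing the normaliser is the whole group. -/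
theorem eq_top_of_lt (hlt : nZ T < M) : M = ⊤ := by
  have hdl : ∀ a, ∀ ha : a < 324, T.A.delta (aF ha) ∈ M := fun a ha =>
    hlt.le (Subgroup.centralizer_le_normalizer _ (aF_mem T ha).2)
  obtain ⟨q, hq, hout⟩ : ∃ q : Fin 31671, T.A.delta q ∈ M ∧ ∀ a, ∀ ha : a < 324, q ≠ aF ha := by
    by_contra! hno
    refine not_le_of_gt hlt fun n hn => mem_nZ_of_maps T fun a ha => ?_
    exact hno (T.A.f n (aF ha)) (by rw [T.A.delta_apply]; exact mul_mem (mul_mem hn (hdl a ha)) (inv_mem hn))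
  obtain ⟨j, hjdef⟩ : ∃ j, j = covPos q.1 := ⟨_, rfl⟩
  have h := covStep q.2
  simp only [covStepOK, Bool.and_eq_true, and_assoc] at h
  obtain ⟨hj, hjq, -⟩ := h
  rw [← hjdef, Nat.blt_eq] at hj
  rw [← hjdef, Nat.beq_eq] at hjq
  have h324 : 324 ≤ j := by
    by_contra hlt'
    have h' := covStep hj
    simp only [covStepOK, Bool.and_eq_true, and_assoc] at h'
    have h'' := h'.2.2
    rw [show Nat.blt j 329 = true from Nat.blt_eq.mpr (by omega), cond_true, Nat.beq_eq, covRoot,
      show Nat.blt j 324 = true from Nat.blt_eq.mpr (by omega), cond_true, hjq] at h''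
    exact hout j (by omega) (Fin.ext h'')
  obtain ⟨r, hr, hrm⟩ := (cov_reps T hdl j hj).2 h324
    ⟨hjq ▸ q.2, by rwa [show (⟨covPt j, hjq ▸ q.2⟩ : Fin 31671) = q from Fin.ext hjq]⟩
  have hders := dersOK_true
  simp only [dersOK, List.all_eq_true, List.mem_range] at hders
  have hgens := ders_gens T hlt.le _ _ (hders r hr) fun v hv => by
    rcases List.mem_cons.1 hv with rfl | hv
    · exact hrm
    · obtain ⟨a, ha, rfl⟩ := mem_flatten hv
      exact ⟨aPt_lt ha, hdl a ha⟩
  rw [eq_top_iff, ← T.A.gen, Subgroup.closure_le]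
  rintro _ ⟨g, hg, rfl⟩
  exact hgens g (T.hk ▸ hg)

end Cfsg.Lib.CosetEnum.Fi23Norm.Centre.Max
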