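import Cfsg.Agent.Lib.CosetEnum.Trans.Basic
import Cfsg.Agent.Lib.CosetEnum.Fi23Norm.Centre.Max.Defs
import Mathlib

/-!
# Symmetries of the affine plane of order three have orders with prime divisors at most three
-/

set_option autoImplicit false

namespace Cfsg.Lib.CosetEnum.Fi23Norm.Centre.Max

open Cfsg.Lib.CosetEnum

theorem planeOK_spec {t : ℕ → ℕ → ℕ} (ht : planeOK t = true) {a b : ℕ} (ha : a < 9) (hb : b < 9) :
    (a = b ∧ t a b = a) ∨ (a ≠ b ∧ t a b < 9 ∧ t a b ≠ a ∧ t a b ≠ b ∧ ∀ c < 9, c ≠ a → c ≠ b → c ≠ t a b →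
      ∀ d < 9, d ∈ [a, b, c, t a b, t a c, t b c, t (t a b) c, t (t a c) b, t (t b c) a]) := by
  simp only [planeOK, List.all_eq_true, List.mem_range, Bool.or_eq_true, Bool.and_eq_true, Bool.not_eq_true',
    Nat.beq_eq, Nat.blt_eq, elemN_iff, and_assoc] at ht
  rcases ht a ha b hb with h | ⟨h0, h1, h2, h3, h4⟩
  · exact Or.inl h
  · refine Or.inr ⟨fun e => by simp [e] at h0, h1, fun e => by simp [e] at h2, fun e => by simp [e] at h3,
      fun c hc x y z d hd => ?_⟩
    rcases h4 c hc with ((h | h) | h) | h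
    · exact absurd h x
    · exact absurd h y
    · exact absurd h z
    · exact h d hd

/-- A symmetry of prime period at least five of a table of the affine plane is trivial. -/
theorem eq_id_of_period {t : ℕ → ℕ → ℕ} (ht : planeOK t = true) {π : Fin 9 → Fin 9} {p : ℕ} (hp : p.Prime)
    (h5 : 5 ≤ p) (hper : π^[p] = id)
    (hpres : ∀ a b c : Fin 9, a ≠ b → c.1 = t a.1 b.1 → (π c).1 = t (π a).1 (π b).1) : ∀ a, π a = a := by
  have : Fact p.Prime := ⟨hp⟩
  have hinj : Function.Injective π := fun a b e => by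
    have e' : π^[p] a = π^[p] b := by
      rw [show p = (p - 1).succ by omega, Function.iterate_succ_apply, Function.iterate_succ_apply, e]
    rwa [hper] at e'
  obtain ⟨σ, hσ⟩ : ∃ σ : Equiv.Perm (Fin 9), ∀ a, σ a = π a :=
    ⟨Equiv.ofBijective π ⟨hinj, Finite.injective_iff_surjective.1 hinj⟩, fun _ => rfl⟩
  have hpow : σ ^ p ^ 1 = 1 := Equiv.ext fun a => by
    rw [pow_one, ← Equiv.Perm.iterate_eq_pow, show (σ : Fin 9 → Fin 9) = π from funext hσ, hper]
    rfl
  have hmod := Equiv.Perm.card_compl_support_modEq hpow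
  rw [Fintype.card_fin] at hmod
  obtain ⟨F, hF⟩ : ∃ F : Finset (Fin 9), F = σ.supportᶜ := ⟨_, rfl⟩
  rw [← hF] at hmod
  have hmem : ∀ a, a ∈ F ↔ π a = a := fun a => by
    rw [hF, Finset.mem_compl, Equiv.Perm.mem_support, not_not, hσ]
  suffices F.card = 9 by
    intro a
    rw [← hmem, Finset.eq_univ_of_card F (by rw [this, Fintype.card_fin])]
    exact Finset.mem_univ _
  obtain ⟨InF, hIn⟩ : ∃ InF : ℕ → Prop, ∀ v, InF v ↔ ∃ a ∈ F, a.1 = v := ⟨fun v => ∃ a ∈ F, a.1 = v, fun _ => Iff.rfl⟩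
  have hclosed : ∀ x y, InF x → InF y → InF (t x y) := by
    intro x y hx hy
    obtain ⟨a, ha, rfl⟩ := (hIn x).1 hx
    obtain ⟨b, hb, rfl⟩ := (hIn y).1 hy
    rcases planeOK_spec ht a.2 b.2 with ⟨-, e⟩ | ⟨hne, hlt, -⟩
    · rw [e]
      exact hx
    · refine (hIn _).2 ⟨⟨_, hlt⟩, (hmem _).2 (Fin.ext ?_), rfl⟩
      rw [hpres a b ⟨_, hlt⟩ (fun e => hne (congrArg Fin.val e)) rfl, (hmem a).1 ha, (hmem b).1 hb]
  have hle : F.card ≤ 9 := le_trans (Finset.card_le_univ F) (by simp)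
  rcases Nat.lt_or_ge F.card 2 with h2 | h2
  · exfalso
    have hd : p ∣ 9 - F.card := (Nat.modEq_iff_dvd' hle).1 hmod
    have := Nat.le_of_dvd (by omega) hd
    have hp9 : p ≤ 9 := by omega
    interval_cases p <;> revert hd <;> interval_cases F.card <;> norm_num at *
  obtain ⟨a, ha, b, hb, hab⟩ := Finset.one_lt_card.1 (show 1 < F.card by omega)
  have hab' : a.1 ≠ b.1 := fun e => hab (Fin.ext e)
  obtain ⟨-, hlt, hta, htb, hgen⟩ := (planeOK_spec ht a.2 b.2).resolve_left fun h => hab' h.1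
  obtain ⟨c, hc, hct⟩ := (hIn _).1 (hclosed _ _ ((hIn _).2 ⟨a, ha, rfl⟩) ((hIn _).2 ⟨b, hb, rfl⟩))
  have h3 : 3 ≤ F.card := by
    have hsub : ({a, b, c} : Finset (Fin 9)) ⊆ F := by simp [Finset.insert_subset_iff, ha, hb, hc]
    refine le_trans (le_of_eq ?_) (Finset.card_le_card hsub)
    rw [Finset.card_eq_three.2 ⟨a, b, c, hab, fun e => hta (by rw [← hct, ← e]),
      fun e => htb (by rw [← hct, ← e]), rfl⟩]
  by_contra h9
  have hd : p ∣ 9 - F.card := (Nat.modEq_iff_dvd' hle).1 hmod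
  have hpl := Nat.le_of_dvd (by omega) hd
  have h4 : F.card = 4 := by
    have hp9 : p ≤ 9 := by omega
    interval_cases p <;> first | omega | (revert hd hp; norm_num <;> omega)
  obtain ⟨e, he, hne⟩ := Finset.exists_mem_notMem_of_card_lt_card
    (show ({a, b, c} : Finset (Fin 9)).card < F.card by
      refine lt_of_le_of_lt Finset.card_le_three ?_
      omega)
  simp only [Finset.mem_insert, Finset.mem_singleton, not_or] at hne
  have hall : ∀ d : Fin 9, d ∈ F := by
    intro d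
    have hA := (hIn _).2 ⟨a, ha, rfl⟩
    have hB := (hIn _).2 ⟨b, hb, rfl⟩
    have hE := (hIn _).2 ⟨e, he, rfl⟩
    have hd' := hgen e.1 e.2 (fun x => hne.1 (Fin.ext x)) (fun x => hne.2.1 (Fin.ext x))
      (fun x => hne.2.2 (Fin.ext (x.trans hct.symm))) d.1 d.2
    simp only [List.mem_cons, List.not_mem_nil, or_false] at hd'
    have hin : InF d.1 := by
      rcases hd' with h | h | h | h | h | h | h | h | h <;> rw [h] <;>
        first
        | assumption
        | exact hclosed _ _ hA hB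
        | exact hclosed _ _ hA hE
        | exact hclosed _ _ hB hE
        | exact hclosed _ _ (hclosed _ _ hA hB) hE
        | exact hclosed _ _ (hclosed _ _ hA hE) hB
        | exact hclosed _ _ (hclosed _ _ hB hE) hA
    obtain ⟨d', hd', e'⟩ := (hIn _).1 hin
    rwa [← Fin.ext e']
  rw [Finset.eq_univ_iff_forall.2 hall, Finset.card_univ, Fintype.card_fin] at h4
  omega

end Cfsg.Lib.CosetEnum.Fi23Norm.Centre.Max
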