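import Cfsg.Agent.S0144
import Cfsg.Agent.Lib.CosetEnum.Fi23Norm.Centre.Max.Action
import Cfsg.Agent.Lib.CosetEnum.Fi23Norm.Centre.Max.Plane
import Cfsg.Agent.Lib.CosetEnum.Fi23Norm.Centre.Max.ChecksShape

/-!
# The normaliser of the centre is a group of two primes, hence solvable

An element of prime order at least five fixes the nine cliques of blocks, which carry the lines of an affine
plane, then the four blocks of each, and then the nine members of each block, which carry such lines as well.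
-/

set_option autoImplicit false
set_option maxRecDepth 100000

namespace Cfsg.Lib.CosetEnum.Fi23Norm.Centre.Max

open Cfsg.Lib.CosetEnum
open Cfsg.Lib.CosetEnum.Fi23Fi22 (tabP)
open Cfsg.Lib.CosetEnum.Fi23Out (pts)

theorem clique_facts {i : ℕ} (hi : i < 36) : clq i < 9 ∧ i ∈ cliques.getD (clq i) [] ∧
    (cliques.getD (clq i) []).length ≤ 4 ∧
      ∀ j < 36, (elemN (cAdj.getD i []) j = true ∨ i = j) ↔ clq i = clq j := by
  have h := cliqueOK_true
  simp only [cliqueOK, List.all_eq_true, List.mem_range, Bool.and_eq_true, Nat.blt_eq, elemN_iff,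
    Nat.ble_eq, and_assoc] at h
  obtain ⟨h1, h2, h3, h4⟩ := h i hi
  refine ⟨h1, h2, h3, fun j hj => ?_⟩
  have := Bool.eq_iff_iff.1 (beq_iff_eq.1 (h4 j hj))
  simp only [Bool.or_eq_true, Nat.beq_eq] at this
  exact this

theorem clique_rep (c : Fin 9) : ∃ r : Fin 36, clq r.1 = c.1 := by
  have h := cliqueRepOK_true
  simp only [cliqueRepOK, List.all_eq_true, List.mem_range, Bool.and_eq_true, Nat.blt_eq, Nat.beq_eq] at h
  exact ⟨⟨_, (h c.1 c.2).1⟩, (h c.1 c.2).2⟩

theorem planes : planeOK thirdC = true ∧ ∀ i < 36, planeOK (thirdB i) = true := by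
  have h := planesOK_true
  simp only [planesOK, Bool.and_eq_true, List.all_eq_true, List.mem_range] at h
  exact h

theorem two_three {n : ℕ} (hn : n ≠ 0) (h : ∀ p, p.Prime → p ∣ n → p = 2 ∨ p = 3) :
    ∃ a b, n = 2 ^ a * 3 ^ b := by
  induction n using Nat.strong_induction_on with
  | _ n ih =>
  by_cases h1 : n = 1
  · exact ⟨0, 0, by simp [h1]⟩
  obtain ⟨p, hp, hd⟩ := Nat.exists_prime_and_dvd h1
  obtain ⟨m, rfl⟩ := hd
  have hm : m ≠ 0 := fun e => hn (by rw [e, mul_zero])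
  have hlt : m < p * m := lt_mul_of_one_lt_left (Nat.pos_of_ne_zero hm) hp.one_lt
  obtain ⟨a, b, rfl⟩ := ih m hlt hm fun q hq hqd => h q hq (hqd.trans (dvd_mul_left _ _))
  rcases h p hp (dvd_mul_right _ _) with rfl | rfl
  · exact ⟨a + 1, b, by ring⟩
  · exact ⟨a, b + 1, by ring⟩

variable {G : Type*} [Group G] [Finite G] {D : Set G} (T : Fi23Tab G D)

theorem inside_conj {i k a : ℕ} (hi : i < 36) (hk : k < 9) (ha : a < 9) :
    thirdB i k a < 9 ∧ dl T i k * dl T i a * (dl T i k)⁻¹ = dl T i (thirdB i k a) := by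
  have h := insideOK_true
  simp only [insideOK, List.all_eq_true, List.mem_range, Bool.and_eq_true, Nat.blt_eq, Nat.beq_eq] at h
  obtain ⟨h1, h2⟩ := h i hi k hk a ha
  refine ⟨h1, ?_⟩
  rw [← dl_delta T hi ha, ← T.A.delta_apply, ← dl_delta T hi h1]
  refine congrArg _ (Fin.ext ?_)
  show (T.A.f (wordVal T.A.x (cWord i k)) (pF hi ha)).1 = _
  rw [T.walk (cWord_lt hi hk)]
  exact h2

theorem cross_conj {i k j l : ℕ} (hi : i < 36) (hk : k < 9) (hj : j < 36) (hl : l < 9) (hne : clq i ≠ clq j) :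
    ∃ s < 36, ∃ m < 9, clq s = thirdC (clq i) (clq j) ∧ dl T i k * dl T j l * (dl T i k)⁻¹ = dl T s m := by
  have h0 : (0 : ℕ) < 9 := by norm_num
  have h := crossOK_true
  simp only [crossOK, List.all_eq_true, List.mem_range, Bool.or_eq_true, Nat.beq_eq, List.any_eq_true,
    Bool.and_eq_true, Nat.blt_eq, elemN_iff, and_assoc] at h
  obtain ⟨s, -, hs, hcl, hmem⟩ := (h i hi j hj).resolve_left hne
  obtain ⟨m, hm, he⟩ := mem_block hs hmem
  have hbase : dl T i 0 * dl T j 0 * (dl T i 0)⁻¹ = dl T s m := by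
    rw [← dl_delta T hj h0, ← T.A.delta_apply, ← dl_delta T hs hm]
    refine congrArg _ (Fin.ext ?_)
    show (T.A.f (wordVal T.A.x (cWord i 0)) (pF hj h0)).1 = _
    rw [T.walk (cWord_lt hi h0)]
    exact he.symm
  obtain ⟨v, hv, hvl⟩ := dl_move T hj l hl
  have hd : dl T i 0 ∈ nZ T := Subgroup.centralizer_le_normalizer _ (dl_mem T hi h0).2
  obtain ⟨u, hu⟩ : ∃ u, u = dl T i k * dl T i 0 * (dl T i 0 * v * (dl T i 0)⁻¹) := ⟨_, rfl⟩
  have huQ : u ∈ qSub T := hu ▸ mul_mem (pair_mem T hi hk h0) (qSub_conj T hd hv)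
  obtain ⟨m', hm', e⟩ := keeps_qSub T huQ s hs m hm
  refine ⟨s, hs, m', hm', hcl, ?_⟩
  rw [← e, ← hbase, ← hvl, hu]
  have hinv : (dl T i 0)⁻¹ = dl T i 0 := inv_eq_of_mul_eq_one_right (dl_sq T hi h0)
  rw [show dl T i k * dl T i 0 * (dl T i 0 * v * (dl T i 0)⁻¹) * (dl T i 0 * dl T j 0 * (dl T i 0)⁻¹) *
      (dl T i k * dl T i 0 * (dl T i 0 * v * (dl T i 0)⁻¹))⁻¹ =
    (dl T i k * (dl T i 0 * dl T i 0)) * (v * dl T j 0 * v⁻¹) * (dl T i k * (dl T i 0 * dl T i 0))⁻¹ by group,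
    dl_sq T hi h0, mul_one]

/-- There is no element of prime order at least five. -/
theorem eq_one_of_pow {x : G} (hx : x ∈ nZ T) {p : ℕ} (hp : p.Prime) (h5 : 5 ≤ p) (hxp : x ^ p = 1) :
    x = 1 := by
  have h0 : (0 : ℕ) < 9 := by norm_num
  obtain ⟨σ, hσ⟩ : ∃ σ : Fin 36 → Fin 36, ∀ i : Fin 36, MovesTo T x i.1 (σ i).1 := by
    have : ∀ i : Fin 36, ∃ j : Fin 36, MovesTo T x i.1 j.1 := fun i => by
      obtain ⟨j, hj, h⟩ := exists_block T hx i.2
      exact ⟨⟨j, hj⟩, h⟩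
    exact Classical.skolem.1 this
  have hit : ∀ (n : ℕ) (i : Fin 36), MovesTo T (x ^ n) i.1 (σ^[n] i).1 := by
    intro n i
    induction n with
    | zero => exact fun k hk => ⟨k, hk, by simp⟩
    | succ n ih => rw [pow_succ', Function.iterate_succ_apply']; exact movesTo_mul T ih (hσ _)
  have hper : ∀ i, σ^[p] i = i := fun i =>
    Fin.ext (movesTo_unique T (σ^[p] i).2 i.2 (hit p i) (hxp ▸ fun k hk => ⟨k, hk, by simp⟩))
  have hclq : ∀ i j : Fin 36, clq i.1 = clq j.1 → clq (σ i).1 = clq (σ j).1 := by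
    intro i j h
    obtain ⟨a, ha, ea⟩ := hσ i 0 h0
    obtain ⟨b, hb, eb⟩ := hσ j 0 h0
    rcases ((clique_facts i.2).2.2.2 j.1 j.2).2 h with h' | h'
    · have hc := (commute_conj_iff x).2 ((dl_commute T i.2 h0 j.2 h0).2 (Or.inl h'))
      rw [ea, eb] at hc
      refine ((clique_facts (σ i).2).2.2.2 _ (σ j).2).1 ?_
      exact ((dl_commute T (σ i).2 ha (σ j).2 hb).1 hc).imp_right And.left
    · rw [Fin.ext h']
  obtain ⟨π, hπ⟩ : ∃ π : Fin 9 → Fin 9, ∀ i : Fin 36, (π ⟨clq i.1, (clique_facts i.2).1⟩).1 = clq (σ i).1 := by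
    choose r hr using clique_rep
    exact ⟨fun c => ⟨clq (σ (r c)).1, (clique_facts (σ (r c)).2).1⟩, fun i => hclq _ _ (hr _)⟩
  have hπit : ∀ (n : ℕ) (i : Fin 36), (π^[n] ⟨clq i.1, (clique_facts i.2).1⟩).1 = clq (σ^[n] i).1 := by
    intro n i
    induction n with
    | zero => rfl
    | succ n ih =>
      rw [Function.iterate_succ_apply', Function.iterate_succ_apply', ← hπ (σ^[n] i)]
      exact congrArg (fun c => (π c).1) (Fin.ext ih)
  have hπper : π^[p] = id := by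
    funext c
    obtain ⟨r, hr⟩ := clique_rep c
    obtain rfl : c = ⟨clq r.1, (clique_facts r.2).1⟩ := Fin.ext hr.symm
    exact Fin.ext (by rw [hπit, hper]; rfl)
  have hπfix : ∀ c, π c = c := by
    refine eq_id_of_period planes.1 hp h5 hπper ?_
    intro a b c hab hc
    obtain ⟨i, hi⟩ := clique_rep a
    obtain ⟨j, hj⟩ := clique_rep b
    obtain rfl : a = ⟨clq i.1, (clique_facts i.2).1⟩ := Fin.ext hi.symm
    obtain rfl : b = ⟨clq j.1, (clique_facts j.2).1⟩ := Fin.ext hj.symm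
    obtain ⟨s, hs, m, hm, hcl, e⟩ := cross_conj T i.2 h0 j.2 h0 (fun e => hab (Fin.ext e))
    obtain rfl : c = ⟨clq (⟨s, hs⟩ : Fin 36).1, (clique_facts hs).1⟩ := Fin.ext (hc.trans hcl.symm)
    rw [hπ i, hπ j, hπ ⟨s, hs⟩]
    obtain ⟨k', hk', ek⟩ := hσ i 0 h0
    obtain ⟨l', hl', el⟩ := hσ j 0 h0
    obtain ⟨m', hm', em⟩ := hσ ⟨s, hs⟩ m hm
    have hne : clq (σ i).1 ≠ clq (σ j).1 := by
      intro e'
      have hπinj : Function.Injective π := fun u v huv => by
        have := congrArg π^[p - 1] huv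
        rwa [← Function.iterate_succ_apply, ← Function.iterate_succ_apply, show (p - 1).succ = p by omega,
          hπper] at this
      exact hab (hπinj (Fin.ext (by rw [hπ i, hπ j, e'])))
    obtain ⟨s', hs', m'', hm'', hcl', e'⟩ := cross_conj T (σ i).2 hk' (σ j).2 hl' hne
    rw [← ek, ← el, show x * dl T i.1 0 * x⁻¹ * (x * dl T j.1 0 * x⁻¹) * (x * dl T i.1 0 * x⁻¹)⁻¹ =
      x * (dl T i.1 0 * dl T j.1 0 * (dl T i.1 0)⁻¹) * x⁻¹ by group, e, em] at e'
    rw [(dl_inj T (σ ⟨s, hs⟩).2 hm' hs' hm'' e').1, hcl']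
  have hσfix : ∀ i, σ i = i := by
    intro i
    by_contra hne
    have hclall : ∀ n, clq (σ^[n] i).1 = clq i.1 := fun n => by
      rw [← hπit, Function.iterate_fixed (hπfix _)]
    have hmin : Function.minimalPeriod σ i = p := by
      rcases hp.eq_one_or_self_of_dvd _ (Function.IsPeriodicPt.minimalPeriod_dvd (show Function.IsPeriodicPt σ p i from hper i)) with h | h
      · exact absurd (Function.minimalPeriod_eq_one_iff_isFixedPt.1 h) hne
      · exact h
    have hinj := Function.iterate_injOn_Iio_minimalPeriod (f := σ) (x := i)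
    rw [hmin] at hinj
    have hcard : (Finset.range p).card ≤ (cliques.getD (clq i.1) []).toFinset.card := by
      refine Finset.card_le_card_of_injOn (fun n => (σ^[n] i).1) (fun n _ => ?_) ?_
      · simp only [Finset.mem_coe, List.mem_toFinset, ← hclall n]
        exact (clique_facts (σ^[n] i).2).2.1
      · rw [Finset.coe_range]
        exact fun u hu v hv e => hinj hu hv (Fin.ext e)
    have := (clique_facts i.2).2.2.1
    have := List.toFinset_card_le (cliques.getD (clq i.1) [])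
    rw [Finset.card_range] at hcard
    omega
  have hin : ∀ i : Fin 36, ∀ k < 9, x * dl T i.1 k * x⁻¹ = dl T i.1 k := by
    intro i
    have hb : ∀ k : Fin 9, ∃ k' : Fin 9, x * dl T i.1 k.1 * x⁻¹ = dl T i.1 k'.1 := fun k => by
      obtain ⟨l, hl, e⟩ := hσ i k.1 k.2
      exact ⟨⟨l, hl⟩, by rw [e, hσfix i]⟩
    obtain ⟨ρ, hρ⟩ := Classical.skolem.1 hb
    have hρit : ∀ (n : ℕ) (k : Fin 9), x ^ n * dl T i.1 k.1 * (x ^ n)⁻¹ = dl T i.1 (ρ^[n] k).1 := by
      intro n k
      induction n with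
      | zero => simp
      | succ n ih =>
        rw [Function.iterate_succ_apply', ← hρ, ← ih, pow_succ']
        group
    have hρper : ρ^[p] = id := funext fun k => Fin.ext
      (dl_inj T i.2 (ρ^[p] k).2 i.2 k.2 (by rw [← hρit, hxp]; group)).2
    have hfix := eq_id_of_period (planes.2 i.1 i.2) hp h5 hρper fun a b c hab hc => by
      obtain ⟨-, e⟩ := inside_conj T i.2 a.2 b.2
      obtain ⟨h', e'⟩ := inside_conj T i.2 (ρ a).2 (ρ b).2
      rw [← hρ, ← hρ, show x * dl T i.1 a.1 * x⁻¹ * (x * dl T i.1 b.1 * x⁻¹) * (x * dl T i.1 a.1 * x⁻¹)⁻¹ =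
        x * (dl T i.1 a.1 * dl T i.1 b.1 * (dl T i.1 a.1)⁻¹) * x⁻¹ by group, e, ← hc, hρ] at e'
      exact (dl_inj T i.2 (ρ c).2 i.2 h' e').2
    intro k hk
    rw [hρ ⟨k, hk⟩, hfix]
  obtain ⟨m, hm⟩ := Subgroup.mem_zpowers_iff.1 (mem_zpowers_of_commute T (c := x) fun a ha => by
    rw [aF_delta T]
    exact mul_inv_eq_iff_eq_mul.1 (hin ⟨a / 9, by omega⟩ (a % 9) (by omega)))
  have h3 : x ^ 3 = 1 := by
    rw [← hm, ← zpow_natCast, ← zpow_mul, mul_comm, zpow_mul, zpow_natCast, zG_cube, one_zpow]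
  have hcop : Nat.Coprime p 3 := (Nat.coprime_primes hp Nat.prime_three).2 (by omega)
  exact orderOf_eq_one_iff.1 (Nat.eq_one_of_dvd_coprimes hcop (orderOf_dvd_of_pow_eq_one hxp)
    (orderOf_dvd_of_pow_eq_one h3))

/-- The normaliser of the centre is solvable. -/
theorem isSolvable_nZ : Group.IsSolvable ↥(nZ T) := by
  obtain ⟨a, b, h⟩ := two_three (Nat.card_pos (α := ↥(nZ T))).ne' fun p hp hd => by
    have : Fact p.Prime := ⟨hp⟩
    obtain ⟨x, hx⟩ := exists_prime_orderOf_dvd_card' p hd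
    by_contra hne
    have h5 : 5 ≤ p := by
      have := hp.two_le
      have h4 : p ≠ 4 := fun e => absurd (e ▸ hp) (by norm_num)
      omega
    have h1 : (x : G) = 1 := eq_one_of_pow T x.2 hp h5
      (by rw [← Subgroup.coe_pow, ← hx, pow_orderOf_eq_one, Subgroup.coe_one])
    rw [show x = 1 from Subtype.ext h1, orderOf_one] at hx
    exact hp.one_lt.ne hx
  exact Cfsg.Agent.S0144.result 2 3 a b Nat.prime_two Nat.prime_three h

end Cfsg.Lib.CosetEnum.Fi23Norm.Centre.Max
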